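import Groth.Agent.L20.FlatHartogs
import Groth.Prelude.Def_FEt

/-! # Restriction of covers to an open with depth two outside -/

set_option autoImplicit false
set_option linter.style.haveILetI false

universe u

open CategoryTheory AlgebraicGeometry CategoryTheory.Limits

namespace Groth.L27.PushO

theorem fullyFaithful_restrict_of_depth {X : Scheme.{u}} [IsLocallyNoetherian X] (U : X.Opens)
    (h : ∀ x : X, x ∉ U → (2 : ℕ∞) ≤ LocCoh.depth (X.presheaf.stalk x) (X.presheaf.stalk x)) :
    (FEt.restrict U.ι).Full ∧ (FEt.restrict U.ι).Faithful := by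
  constructor
  · refine ⟨fun {A B} m => ?_⟩
    haveI : AlgebraicGeometry.Flat A.hom := by have := A.prop.2; infer_instance
    haveI : IsAffineHom B.hom := by have := B.prop.1; infer_instance
    let P := Limits.pullback A.hom U.ι
    let e : (A.hom ⁻¹ᵁ U).toScheme ≅ P := (pullbackRestrictIsoRestrict A.hom U).symm
    have he : e.hom ≫ Limits.pullback.fst A.hom U.ι = (A.hom ⁻¹ᵁ U).ι := by simp [e]
    let c : P ⟶ Limits.pullback B.hom U.ι := m.left
    have hc : c ≫ Limits.pullback.snd B.hom U.ι = Limits.pullback.snd A.hom U.ι := MorphismProperty.Over.w m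
    obtain ⟨a, ha, ha'⟩ := Groth.L20.FlatHartogs.exists_extend h A.hom B.hom A.hom
      (e.hom ≫ c ≫ Limits.pullback.fst B.hom U.ι) (by
        rw [Category.assoc, Category.assoc, Limits.pullback.condition, reassoc_of% hc,
          ← Limits.pullback.condition, ← Category.assoc, he])
    refine ⟨MorphismProperty.Over.homMk a ha, MorphismProperty.Over.Hom.ext ?_⟩
    let r : P ⟶ Limits.pullback B.hom U.ι := ((FEt.restrict U.ι).map (MorphismProperty.Over.homMk a ha)).left
    have hr : r ≫ Limits.pullback.fst B.hom U.ι = Limits.pullback.fst A.hom U.ι ≫ a := pullback.lift_fst _ _ _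
    have hr' : r ≫ Limits.pullback.snd B.hom U.ι = Limits.pullback.snd A.hom U.ι := MorphismProperty.Over.w _
    show r = c
    refine Limits.pullback.hom_ext ?_ (hr'.trans hc.symm)
    rw [hr, ← cancel_epi e.hom, ← Category.assoc, he, ha']
  · refine ⟨fun {A B} a b e => ?_⟩
    haveI : AlgebraicGeometry.Flat A.hom := by have := A.prop.2; infer_instance
    haveI : IsAffineHom B.hom := by have := B.prop.1; infer_instance
    let j : (A.hom ⁻¹ᵁ U).toScheme ≅ Limits.pullback A.hom U.ι := (pullbackRestrictIsoRestrict A.hom U).symm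
    have hj : j.hom ≫ Limits.pullback.fst A.hom U.ι = (A.hom ⁻¹ᵁ U).ι := by simp [j]
    refine MorphismProperty.Over.Hom.ext (Groth.L20.FlatHartogs.ext h A.hom B.hom
      ((MorphismProperty.Over.w a).trans (MorphismProperty.Over.w b).symm) ?_)
    have he : Limits.pullback.fst A.hom U.ι ≫ a.left = Limits.pullback.fst A.hom U.ι ≫ b.left :=
      (pullback.lift_fst _ _ _).symm.trans
        ((congrArg (fun m => m.left ≫ Limits.pullback.fst B.hom U.ι) e).trans (pullback.lift_fst _ _ _))
    exact ((congrArg (· ≫ a.left) hj).symm.trans (Category.assoc _ _ _)).trans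
      ((congrArg (j.hom ≫ ·) he).trans ((Category.assoc _ _ _).symm.trans (congrArg (· ≫ b.left) hj)))

end Groth.L27.PushO
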