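import Groth.Agent.L27.PushO.Sections
import Groth.Prelude.Def_FEt
import Mathlib.AlgebraicGeometry.Morphisms.Etale
import Mathlib.RingTheory.Flat.EquationalCriterion
import Mathlib.RingTheory.Finiteness.ModuleFinitePresentation

/-! # Morphisms to relatively affine schemes along maps with trivial direct image -/

set_option autoImplicit false
set_option linter.style.haveILetI false
set_option backward.isDefEq.respectTransparency.types false

universe u

open CategoryTheory CategoryTheory.Limits AlgebraicGeometry TopologicalSpace Opposite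

noncomputable section

namespace Groth.L27.PushO

theorem bijective_comp_of_appTop {W V Q : Scheme.{u}} [IsAffine Q] (k : W ⟶ V)
    (hk : Function.Bijective k.appTop) : Function.Bijective fun a : V ⟶ Q => k ≫ a := by
  haveI : IsIso k.appTop := (ConcreteCategory.isIso_iff_bijective k.appTop).mpr hk
  refine ⟨fun a b h => ext_of_isAffine ?_, fun c => ?_⟩
  · have h' := congrArg Scheme.Hom.appTop h
    simp only [Scheme.Hom.comp_appTop, cancel_mono] at h'
    exact h'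
  · refine ⟨V.toSpecΓ ≫ Spec.map (c.appTop ≫ inv k.appTop) ≫ Q.isoSpec.inv, ?_⟩
    show k ≫ _ = c
    rw [Scheme.toSpecΓ_naturality_assoc, ← Spec.map_comp_assoc, Category.assoc, IsIso.inv_hom_id,
      Category.comp_id, ← Scheme.toSpecΓ_naturality_assoc]
    simp [Scheme.isoSpec]

/-- A map along which maps to schemes affine over the base lift uniquely. -/
theorem bijective_comp_over {W Y Z S : Scheme.{u}} (g : W ⟶ Y) (p : Y ⟶ S) (h : Z ⟶ S) [IsAffineHom h]
    (hg : ∀ U : S.Opens, IsAffineOpen U → Function.Bijective (g ∣_ (p ⁻¹ᵁ U)).appTop) :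
    Function.Bijective fun m : {m : Y ⟶ Z // m ≫ h = p} =>
      (⟨g ≫ m.1, by rw [Category.assoc, m.2]⟩ : {m : W ⟶ Z // m ≫ h = g ≫ p}) := by
  have hinjU : ∀ (U : S.Opens) (_ : IsAffineOpen U) (a b : (p ⁻¹ᵁ U).toScheme ⟶ Z),
      a ≫ h = (p ⁻¹ᵁ U).ι ≫ p → b ≫ h = (p ⁻¹ᵁ U).ι ≫ p →
      (g ∣_ (p ⁻¹ᵁ U)) ≫ a = (g ∣_ (p ⁻¹ᵁ U)) ≫ b → a = b := by
    intro U hU a b ha hb he
    haveI : IsAffine (h ⁻¹ᵁ U).toScheme := hU.preimage h
    have hr : ∀ c : (p ⁻¹ᵁ U).toScheme ⟶ Z, c ≫ h = (p ⁻¹ᵁ U).ι ≫ p →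
        Set.range c ⊆ Set.range (h ⁻¹ᵁ U).ι := by
      rintro c hc _ ⟨x, rfl⟩
      rw [Scheme.Opens.range_ι]
      show h (c x) ∈ U
      rw [← Scheme.Hom.comp_apply, hc]
      exact x.2
    have key := (bijective_comp_of_appTop (Q := (h ⁻¹ᵁ U).toScheme) _ (hg U hU)).1
      (a₁ := IsOpenImmersion.lift _ a (hr a ha)) (a₂ := IsOpenImmersion.lift _ b (hr b hb))
      ((cancel_mono (h ⁻¹ᵁ U).ι).mp (by
        simp only [Category.assoc, IsOpenImmersion.lift_fac]; exact he))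
    rw [← IsOpenImmersion.lift_fac (h ⁻¹ᵁ U).ι a (hr a ha), key, IsOpenImmersion.lift_fac]
  refine ⟨fun a b hab => Subtype.ext ?_, fun m => ?_⟩
  · refine Scheme.hom_ext_of_forall _ _ fun y => ?_
    obtain ⟨_, ⟨U, hU, rfl⟩, hyU, -⟩ :=
      S.isBasis_affineOpens.exists_subset_of_mem_open (Set.mem_univ (p y)) isOpen_univ
    refine ⟨p ⁻¹ᵁ U, hyU, hinjU U hU _ _ (by rw [Category.assoc, a.2]) (by rw [Category.assoc, b.2]) ?_⟩
    rw [morphismRestrict_ι_assoc, morphismRestrict_ι_assoc]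
    exact congrArg (_ ≫ ·) (congrArg Subtype.val hab)
  · have hex : ∀ U : S.affineOpens, ∃ a : (p ⁻¹ᵁ U.1).toScheme ⟶ Z,
        a ≫ h = (p ⁻¹ᵁ U.1).ι ≫ p ∧ (g ∣_ (p ⁻¹ᵁ U.1)) ≫ a = (g ⁻¹ᵁ p ⁻¹ᵁ U.1).ι ≫ m.1 := by
      intro U
      haveI : IsAffine (h ⁻¹ᵁ U.1).toScheme := U.2.preimage h
      haveI : IsAffine U.1.toScheme := U.2
      have hr : Set.range ((g ⁻¹ᵁ p ⁻¹ᵁ U.1).ι ≫ m.1) ⊆ Set.range (h ⁻¹ᵁ U.1).ι := by
        rintro _ ⟨x, rfl⟩
        rw [Scheme.Opens.range_ι]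
        show h (((g ⁻¹ᵁ p ⁻¹ᵁ U.1).ι ≫ m.1) x) ∈ U.1
        rw [← Scheme.Hom.comp_apply, Category.assoc, m.2]
        exact x.2
      obtain ⟨a, ha⟩ := (bijective_comp_of_appTop (Q := (h ⁻¹ᵁ U.1).toScheme) _ (hg U.1 U.2)).2
        (IsOpenImmersion.lift _ _ hr)
      simp only at ha
      have ha' : (g ∣_ (p ⁻¹ᵁ U.1)) ≫ a ≫ (h ⁻¹ᵁ U.1).ι = (g ⁻¹ᵁ p ⁻¹ᵁ U.1).ι ≫ m.1 := by
        rw [← Category.assoc, ha, IsOpenImmersion.lift_fac]
      refine ⟨a ≫ (h ⁻¹ᵁ U.1).ι, ?_, ha'⟩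
      have h1 : a ≫ (h ∣_ U.1) = p ∣_ U.1 := by
        refine (bijective_comp_of_appTop (Q := U.1.toScheme) _ (hg U.1 U.2)).1
          ((cancel_mono U.1.ι).mp ?_)
        simp only [Category.assoc, morphismRestrict_ι]
        rw [reassoc_of% ha', m.2, morphismRestrict_ι_assoc]
      rw [Category.assoc, ← morphismRestrict_ι, reassoc_of% h1, morphismRestrict_ι]
    choose a ha hga using hex
    have hle : ∀ (U V : S.affineOpens) (hV : V.1 ≤ U.1),
        Y.homOfLE (p.preimage_mono hV) ≫ a U = a V := by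
      intro U V hV
      refine hinjU V.1 V.2 _ _ (by rw [Category.assoc, ha, Scheme.homOfLE_ι_assoc]) (ha V) ?_
      have e : (g ∣_ (p ⁻¹ᵁ V.1)) ≫ Y.homOfLE (p.preimage_mono hV) =
          W.homOfLE (g.preimage_mono (p.preimage_mono hV)) ≫ (g ∣_ (p ⁻¹ᵁ U.1)) := by
        rw [← cancel_mono (p ⁻¹ᵁ U.1).ι]
        simp
      rw [reassoc_of% e, hga, hga, Scheme.homOfLE_ι_assoc]
    have hcov : TopologicalSpace.IsOpenCover fun U : S.affineOpens => p ⁻¹ᵁ U.1 := by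
      refine Opens.ext (Set.eq_univ_of_forall fun y => ?_)
      obtain ⟨_, ⟨U, hU, rfl⟩, hyU, -⟩ :=
        S.isBasis_affineOpens.exists_subset_of_mem_open (Set.mem_univ (p y)) isOpen_univ
      exact Opens.mem_iSup.mpr ⟨⟨U, hU⟩, hyU⟩
    have hcompat : ∀ U U' : S.affineOpens, pullback.fst (p ⁻¹ᵁ U.1).ι (p ⁻¹ᵁ U'.1).ι ≫ a U =
        pullback.snd (p ⁻¹ᵁ U.1).ι (p ⁻¹ᵁ U'.1).ι ≫ a U' := fun U U' => by
      refine Scheme.hom_ext_of_forall _ _ fun x => ?_
      let F := pullback.fst (p ⁻¹ᵁ U.1).ι (p ⁻¹ᵁ U'.1).ι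
      let G := pullback.snd (p ⁻¹ᵁ U.1).ι (p ⁻¹ᵁ U'.1).ι
      let d := F ≫ (p ⁻¹ᵁ U.1).ι ≫ p
      have hcond : F ≫ (p ⁻¹ᵁ U.1).ι = G ≫ (p ⁻¹ᵁ U'.1).ι := pullback.condition
      have hd : d x ∈ U.1 ⊓ U'.1 := by
        refine ⟨(F x).2, ?_⟩
        have : d = G ≫ (p ⁻¹ᵁ U'.1).ι ≫ p := (Category.assoc _ _ _).symm.trans
          ((congrArg (· ≫ p) hcond).trans (Category.assoc _ _ _))
        rw [this]
        exact (G x).2
      obtain ⟨_, ⟨V, hV, rfl⟩, hxV, hVle⟩ :=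
        S.isBasis_affineOpens.exists_subset_of_mem_open hd (U.1 ⊓ U'.1).2
      let O := d ⁻¹ᵁ V
      have hO : Set.range (O.ι ≫ F ≫ (p ⁻¹ᵁ U.1).ι) ⊆ Set.range (p ⁻¹ᵁ V).ι := by
        rintro _ ⟨z, rfl⟩
        rw [Scheme.Opens.range_ι]
        exact z.2
      have hl := IsOpenImmersion.lift_fac _ _ hO
      refine ⟨O, hxV, ?_⟩
      have eF : O.ι ≫ F = IsOpenImmersion.lift _ _ hO ≫
          Y.homOfLE (p.preimage_mono (hVle.trans inf_le_left)) := by
        rw [← cancel_mono (p ⁻¹ᵁ U.1).ι, Category.assoc, Category.assoc, Scheme.homOfLE_ι, hl]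
      have eG : O.ι ≫ G = IsOpenImmersion.lift _ _ hO ≫
          Y.homOfLE (p.preimage_mono (hVle.trans inf_le_right)) := by
        rw [← cancel_mono (p ⁻¹ᵁ U'.1).ι, Category.assoc, Category.assoc, Scheme.homOfLE_ι, hl]
        exact congrArg (O.ι ≫ ·) hcond.symm
      exact (Category.assoc _ _ _).symm.trans ((congrArg (· ≫ a U) eF).trans ((Category.assoc _ _ _).trans
        ((congrArg (_ ≫ ·) ((hle U ⟨V, hV⟩ (hVle.trans inf_le_left)).trans (hle U' ⟨V, hV⟩ (hVle.trans inf_le_right)).symm)).trans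
          ((Category.assoc _ _ _).symm.trans ((congrArg (· ≫ a U') eG).symm.trans (Category.assoc _ _ _))))))
    let 𝒰 := Y.openCoverOfIsOpenCover _ hcov
    let M : Y ⟶ Z := 𝒰.glueMorphisms a hcompat
    have hM : ∀ U, (p ⁻¹ᵁ U.1).ι ≫ M = a U := fun U => 𝒰.ι_glueMorphisms _ _ U
    refine ⟨⟨M, Scheme.hom_ext_of_forall _ _ fun y => ?_⟩, Subtype.ext (Scheme.hom_ext_of_forall _ _ fun w => ?_)⟩
    · obtain ⟨U, hU⟩ := hcov.exists_mem y
      exact ⟨_, hU, by rw [← Category.assoc, hM, ha]⟩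
    · obtain ⟨U, hU⟩ := hcov.exists_mem (g w)
      refine ⟨g ⁻¹ᵁ p ⁻¹ᵁ U.1, hU, ?_⟩
      show _ ≫ g ≫ M = _
      rw [← morphismRestrict_ι_assoc, hM, hga]

/-- Sections of a finite étale cover are those of its base change, when `f_*O = O`. -/
theorem bijective_fst_appTop {X S : Scheme.{u}} (f : X ⟶ S)
    (hf : ∀ U : S.Opens, Function.Bijective (f.app U)) (Y : FEt.Cat S) (U : S.Opens) (hU : IsAffineOpen U) :
    Function.Bijective (pullback.fst Y.hom f ∣_ (Y.hom ⁻¹ᵁ U)).appTop := by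
  let pY : Y.left ⟶ S := Y.hom
  haveI : IsFinite pY := Y.prop.1
  haveI : AlgebraicGeometry.Etale pY := Y.prop.2
  let g := pullback.fst pY f
  let pX := pullback.snd pY f
  haveI : IsAffine (pY ⁻¹ᵁ U).toScheme := hU.preimage pY
  haveI : IsAffine U.toScheme := hU
  let a := pY ∣_ U
  haveI : IsAffineHom a := inferInstance
  have sq0 : IsPullback g pX pY f := IsPullback.of_hasPullback pY f
  have heq : g ⁻¹ᵁ pY ⁻¹ᵁ U = pX ⁻¹ᵁ f ⁻¹ᵁ U := by
    rw [← Scheme.Hom.comp_preimage, pullback.condition, Scheme.Hom.comp_preimage]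
  let e := ((pullback pY f).isoOfEq heq)
  have sq : IsPullback (g ∣_ (pY ⁻¹ᵁ U)) (e.hom ≫ (pX ∣_ (f ⁻¹ᵁ U))) a (f ∣_ U) := by
    refine IsPullback.of_bot ?_ ?_ (isPullback_morphismRestrict f U)
    · have h3 := (isPullback_morphismRestrict g (pY ⁻¹ᵁ U)).paste_vert sq0
      convert! h3 using 1
      · simp [e]
      · simp [a]
    · rw [← cancel_mono U.ι]
      simp [a, e, g, pX, pullback.condition]
  let A := Γ(U.toScheme, ⊤)
  let B := Γ((pY ⁻¹ᵁ U).toScheme, ⊤)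
  let β' : A ⟶ B := a.appTop
  let t := (f ∣_ U) ≫ U.toScheme.isoSpec.hom
  have hB : letI := β'.hom.toAlgebra; Module.Finite A B ∧ Module.Projective A B := by
    letI := β'.hom.toAlgebra
    haveI : IsFinite a := MorphismProperty.of_isPullback (P := @IsFinite)
      (isPullback_morphismRestrict pY U).flip inferInstance
    haveI : AlgebraicGeometry.Etale a := MorphismProperty.of_isPullback (P := @AlgebraicGeometry.Etale)
      (isPullback_morphismRestrict pY U).flip inferInstance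
    haveI hfin : Module.Finite A B := ((IsFinite.SpecMap_iff β').mp (by
      haveI := (IsFinite.iff_isProper_and_isAffineHom (f := a)).mp inferInstance
      exact (MorphismProperty.arrow_mk_iso_iff @IsFinite
        (Arrow.isoMk' a (Spec.map β') (pY ⁻¹ᵁ U).toScheme.isoSpec U.toScheme.isoSpec
          (Scheme.isoSpec_hom_naturality a))).mp inferInstance))
    haveI : Algebra.Etale A B := (HasRingHomProperty.appTop @AlgebraicGeometry.Etale a inferInstance)
    haveI : Module.Flat A B := inferInstance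
    haveI := Module.FinitePresentation.of_finite_of_finitePresentation A B
    exact ⟨hfin, Module.Flat.projective_of_finitePresentation⟩
  have sq' : IsPullback ((g ∣_ (pY ⁻¹ᵁ U)) ≫ (pY ⁻¹ᵁ U).toScheme.isoSpec.hom)
      (e.hom ≫ (pX ∣_ (f ⁻¹ᵁ U))) (Spec.map β') t := by
    refine sq.of_iso (Iso.refl _) (pY ⁻¹ᵁ U).toScheme.isoSpec (Iso.refl _) U.toScheme.isoSpec ?_ ?_ ?_ ?_
    · simp
    · simp
    · exact (Scheme.isoSpec_hom_naturality a).symm
    · simp [t]
  have hstr : ∀ {T : Scheme.{u}} {V : Scheme.{u}} [IsAffine V] (k : T ⟶ V),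
      Function.Bijective (str (k ≫ V.isoSpec.hom) ⊤) ↔ Function.Bijective k.appTop := by
    intro T V _ k
    have e1 : str (k ≫ V.isoSpec.hom) ⊤ =
        ((Scheme.ΓSpecIso Γ(V, ⊤)).inv ≫ V.isoSpec.hom.appTop) ≫ k.appTop := by
      rw [str, Category.assoc, ← Scheme.Hom.comp_appTop]
      simp [Scheme.Hom.appLE, Scheme.Hom.appTop]
    rw [e1]
    simp only [CommRingCat.hom_comp, RingHom.coe_comp]
    haveI : IsIso V.isoSpec.hom.appTop := ⟨V.isoSpec.inv.appTop,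
      by rw [← Scheme.Hom.comp_appTop, V.isoSpec.inv_hom_id, Scheme.Hom.id_appTop],
      by rw [← Scheme.Hom.comp_appTop, V.isoSpec.hom_inv_id, Scheme.Hom.id_appTop]⟩
    exact Function.Bijective.of_comp_iff _
      ((ConcreteCategory.bijective_of_isIso V.isoSpec.hom.appTop).comp
        (ConcreteCategory.bijective_of_isIso (Scheme.ΓSpecIso Γ(V, ⊤)).inv))
  have ht : Function.Bijective (str t ⊤) := by
    refine (hstr (f ∣_ U)).mpr ?_
    rw [morphismRestrict_appTop]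
    exact (ConcreteCategory.bijective_of_isIso
      (X.presheaf.map (eqToHom (image_morphismRestrict_preimage f U ⊤)).op)).comp (hf (U.ι ''ᵁ ⊤))
  exact (hstr _).mp (bijective_str_top sq' hB ht)

/-- Base change along `f` with `f_*O = O` is bijective on morphisms of covers. -/
theorem exists_hom {X S : Scheme.{u}} (f : X ⟶ S) (hf : ∀ U : S.Opens, Function.Bijective (f.app U))
    (V W : FEt.Cat S) :
    (∀ a b : V ⟶ W, pullback.fst V.hom f ≫ a.left = pullback.fst V.hom f ≫ b.left → a = b) ∧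
    ∀ c : pullback V.hom f ⟶ pullback W.hom f, c ≫ pullback.snd W.hom f = pullback.snd V.hom f →
      ∃ a : V ⟶ W, pullback.fst V.hom f ≫ a.left = c ≫ pullback.fst W.hom f := by
  let pV : V.left ⟶ S := V.hom
  let pW : W.left ⟶ S := W.hom
  haveI : IsFinite pW := W.prop.1
  obtain ⟨hi, hs⟩ := bijective_comp_over (pullback.fst pV f) pV pW
    (fun U hU => bijective_fst_appTop f hf V U hU)
  refine ⟨fun a b h => ?_, fun c hc => ?_⟩
  · have ha : a.left ≫ pW = pV := MorphismProperty.Over.w a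
    have hb : b.left ≫ pW = pV := MorphismProperty.Over.w b
    exact MorphismProperty.Over.Hom.ext (congrArg Subtype.val
      (hi (a₁ := ⟨a.left, ha⟩) (a₂ := ⟨b.left, hb⟩) (Subtype.ext h)))
  · let c0 : pullback pV f ⟶ pullback pW f := c
    have hc0 : c0 ≫ pullback.snd pW f = pullback.snd pV f := hc
    obtain ⟨⟨m, hm⟩, hm'⟩ := hs ⟨c0 ≫ pullback.fst pW f, by
      rw [Category.assoc, pullback.condition, reassoc_of% hc0, ← pullback.condition]⟩
    exact ⟨MorphismProperty.Over.homMk m hm, congrArg Subtype.val hm'⟩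

end Groth.L27.PushO
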