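import Groth.Agent.L20.FlatHartogs
import Groth.Agent.L27.FEtGal.SplitFinite
import Groth.Agent.L23.SchemeFacts
import Mathlib.AlgebraicGeometry.Morphisms.Etale
import Mathlib.AlgebraicGeometry.Limits

/-! # A finite flat morphism étale over an open with depth two outside is étale -/

set_option autoImplicit false
set_option linter.style.haveILetI false
set_option backward.isDefEq.respectTransparency.types false

universe u

open CategoryTheory CategoryTheory.Limits AlgebraicGeometry TopologicalSpace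

noncomputable section

namespace Groth.L27.PushO

theorem etale_of_flat_of_depth {X Y : Scheme.{u}} [IsLocallyNoetherian X] (U : X.Opens)
    (hU : ∀ x : X, x ∉ U → (2 : ℕ∞) ≤ LocCoh.depth (X.presheaf.stalk x) (X.presheaf.stalk x))
    (π : Y ⟶ X) [IsFinite π] [Flat π] [AlgebraicGeometry.Etale (pullback.snd π U.ι)] :
    AlgebraicGeometry.Etale π := by
  let P := pullback π π
  let q : P ⟶ X := pullback.fst π π ≫ π
  haveI : IsFinite q := MorphismProperty.comp_mem _ _ _ inferInstance inferInstance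
  haveI : Flat q := MorphismProperty.comp_mem _ _ _ inferInstance inferInstance
  let Δ : Y ⟶ P := pullback.diagonal π
  let Δ' : (π ⁻¹ᵁ U).toScheme ⟶ P := (π ⁻¹ᵁ U).ι ≫ Δ
  -- the diagonal is open over `U`
  let πU := pullback.snd π U.ι
  let j : pullback πU πU ⟶ P := pullback.map πU πU π π (pullback.fst π U.ι) (pullback.fst π U.ι) U.ι
    pullback.condition.symm pullback.condition.symm
  haveI : IsOpenImmersion j := inferInstance
  haveI : IsOpenImmersion Δ' := by
    haveI : IsOpenImmersion (pullback.diagonal πU) := inferInstance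
    let e : (π ⁻¹ᵁ U).toScheme ≅ pullback π U.ι := (pullbackRestrictIsoRestrict π U).symm
    have h : Δ' = e.hom ≫ pullback.diagonal πU ≫ j := by
      have he : e.hom ≫ pullback.fst π U.ι = (π ⁻¹ᵁ U).ι := by simp [e]
      apply pullback.hom_ext
      · simp [Δ', Δ, j, he, pullback.map, pullback.lift_fst]
      · simp [Δ', Δ, j, he, pullback.map, pullback.lift_snd]
    rw [h]; infer_instance
  have hmem : ∀ y, q (Δ y) = π y := fun y => by
    rw [← Scheme.Hom.comp_apply]
    congr 1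
    simp [Δ, q]
  have hrange : Set.range Δ' = Set.range Δ ∩ (q ⁻¹ᵁ U : Set P) := by
    ext z
    constructor
    · rintro ⟨y, rfl⟩
      exact ⟨⟨_, rfl⟩, show q (Δ y.1) ∈ U by rw [hmem]; exact y.2⟩
    · rintro ⟨⟨y, rfl⟩, hy⟩
      exact ⟨⟨y, show π y ∈ U by rw [← hmem]; exact hy⟩, rfl⟩
  -- the characteristic function of the diagonal over `U`
  let PU : P.Opens := q ⁻¹ᵁ U
  let C₀ : P.Opens := ⟨Set.range Δ', Δ'.isOpenEmbedding.isOpen_range⟩
  let C₁ : P.Opens := PU ⊓ ⟨(Set.range Δ)ᶜ, Δ.isClosedEmbedding.isClosed_range.isOpen_compl⟩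
  have h0 : C₀ ≤ PU := fun z hz => (hrange.le hz).2
  let W : Fin 2 → P.Opens := ![C₀, C₁]
  have hW : ∀ k, W k ≤ PU := fun k => by
    fin_cases k
    · exact h0
    · exact inf_le_left
  let w : ∀ k : Fin 2, (W k).toScheme ⟶ PU.toScheme := fun k => P.homOfLE (hW k)
  have hw : ∀ k, Set.range (w k) = PU.ι ⁻¹' (W k : Set P) := fun k => by
    exact congrArg SetLike.coe (P.opensRange_homOfLE (hW k))
  haveI : IsOpenImmersion (Sigma.desc w) := by
    refine isOpenImmersion_sigmaDesc _ w fun a b hab => ?_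
    rw [Function.onFun, Set.disjoint_left]
    intro z hza hzb
    rw [hw] at hza hzb
    fin_cases a <;> fin_cases b
    · exact hab rfl
    · exact hzb.2 (hrange.le hza).1
    · exact hza.2 (hrange.le hzb).1
    · exact hab rfl
  haveI : Surjective (Sigma.desc w) := by
    refine ⟨fun z => ?_⟩
    have : ∃ k, z ∈ Set.range (w k) := by
      by_cases hz : PU.ι z ∈ Set.range Δ
      · exact ⟨0, by rw [hw]; exact hrange.ge ⟨hz, z.2⟩⟩
      · exact ⟨1, by rw [hw]; exact ⟨z.2, hz⟩⟩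
    obtain ⟨k, y, rfl⟩ := this
    exact ⟨Sigma.ι (fun k => (W k).toScheme) k y, by rw [← Scheme.Hom.comp_apply, Sigma.ι_desc]⟩
  haveI : Epi (Sigma.desc w).base := (TopCat.epi_iff_surjective _).mpr (Sigma.desc w).surjective
  haveI : IsIso (Sigma.desc w) := IsOpenImmersion.isIso (Sigma.desc w)
  let D : Scheme.{u} := ∐ fun _ : Fin 2 => X
  let t : D ⟶ X := Sigma.desc fun _ : Fin 2 => 𝟙 X
  haveI : IsFinite t := Groth.L27.FEtGal.isFinite_foldId 2
  let ψ : PU.toScheme ⟶ D :=
    inv (Sigma.desc w) ≫ Sigma.desc fun k => ((W k).ι ≫ q) ≫ Sigma.ι (fun _ : Fin 2 => X) k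
  obtain ⟨a, ha, haU⟩ := Groth.L20.FlatHartogs.exists_extend hU q t q ψ (by
    rw [show (q ⁻¹ᵁ U).ι = PU.ι from rfl]
    simp only [ψ, Category.assoc, IsIso.inv_comp_eq]
    refine Sigma.hom_ext _ _ fun k => ?_
    simp [t, w])
  have hwψ : ∀ k, w k ≫ PU.ι ≫ a = ((W k).ι ≫ q) ≫ Sigma.ι (fun _ : Fin 2 => X) k := fun k => by
    have h : w k ≫ inv (Sigma.desc w) = Sigma.ι (fun k => (W k).toScheme) k :=
      (IsIso.comp_inv_eq (Sigma.desc w)).mpr (Sigma.ι_desc w k).symm
    rw [show PU.ι ≫ a = ψ from haU]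
    exact (Category.assoc _ _ _).symm.trans ((congrArg (· ≫ _) h).trans (Sigma.ι_desc _ k))
  haveI : IsOpenImmersion (Sigma.ι (fun _ : Fin 2 => X) 0) := inferInstance
  let C : P.Opens := a ⁻¹ᵁ (Sigma.ι (fun _ : Fin 2 => X) 0).opensRange
  have hCU : ∀ k (z : (W k).toScheme), a ((W k).ι z) = Sigma.ι (fun _ : Fin 2 => X) k (q ((W k).ι z)) := by
    intro k z
    have e : w k ≫ PU.ι ≫ a = ((W k).ι ≫ q) ≫ Sigma.ι (fun _ : Fin 2 => X) k := hwψ k
    rw [show (W k).ι = w k ≫ PU.ι from (P.homOfLE_ι (hW k)).symm]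
    exact congrArg (fun f : (W k).toScheme ⟶ D => f z) ((Category.assoc _ _ _).trans
      (e.trans (by rw [← P.homOfLE_ι (hW k)])))
  have hC : ∀ z, z ∈ PU → (z ∈ C ↔ z ∈ Set.range Δ) := by
    intro z hz
    constructor
    · intro hzC
      by_contra hn
      obtain ⟨x, hx⟩ := hzC
      have h1 : a z = Sigma.ι (fun _ : Fin 2 => X) 1 (q z) := hCU 1 ⟨z, hz, hn⟩
      have := (sigmaι_eq_iff (fun _ : Fin 2 => X) 0 1 x (q z)).mp (hx.trans h1)
      exact absurd (congrArg Sigma.fst this) (by simp)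
    · intro hzΔ
      exact ⟨q z, (hCU 0 ⟨z, hrange.ge ⟨hzΔ, hz⟩⟩).symm⟩
  -- the diagonal lands in `C`
  have hΔa : Δ ≫ a = π ≫ Sigma.ι (fun _ : Fin 2 => X) 0 := by
    refine Groth.L20.FlatHartogs.ext hU π t ?_ ?_
    · rw [Category.assoc, ha, Category.assoc]
      simp [t, q, Δ]
    · have e : (π ⁻¹ᵁ U).ι ≫ Δ ≫ a = Δ' ≫ a := by simp [Δ']
      rw [e]
      let δ0 : (π ⁻¹ᵁ U).toScheme ⟶ (W 0).toScheme := IsOpenImmersion.lift (W 0).ι Δ' (by
        rw [Scheme.Opens.range_ι]; exact subset_rfl)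
      have hδ : δ0 ≫ (W 0).ι = Δ' := IsOpenImmersion.lift_fac _ _ _
      have key : (W 0).ι ≫ a = ((W 0).ι ≫ q) ≫ Sigma.ι (fun _ : Fin 2 => X) 0 := by
        conv_lhs => rw [← P.homOfLE_ι (hW 0), Category.assoc]
        exact hwψ 0
      rw [← hδ, Category.assoc, key, ← Category.assoc, ← Category.assoc, hδ]
      simp [Δ', Δ, q]
  have hΔC : Set.range Δ ⊆ Set.range C.ι := by
    rintro _ ⟨y, rfl⟩
    rw [Scheme.Opens.range_ι]
    exact ⟨π y, (congrArg (fun f : Y ⟶ D => f y) hΔa).symm⟩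
  let δ : Y ⟶ C.toScheme := IsOpenImmersion.lift C.ι Δ hΔC
  have hδι : δ ≫ C.ι = Δ := IsOpenImmersion.lift_fac _ _ _
  let c : C.toScheme ⟶ Y := C.ι ≫ pullback.fst π π
  have hδc : δ ≫ c = 𝟙 Y := by
    simp only [c, ← Category.assoc, hδι]
    simp [Δ]
  let qC : C.toScheme ⟶ X := C.ι ≫ q
  haveI : Flat qC := MorphismProperty.comp_mem _ _ _ inferInstance inferInstance
  have hCclosed : IsClosed (C : Set P) := by
    have : IsClosed (Set.range (Sigma.ι (fun _ : Fin 2 => X) 0)) := by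
      have heq : (Set.range (Sigma.ι (fun _ : Fin 2 => X) 0))ᶜ = Set.range (Sigma.ι (fun _ : Fin 2 => X) 1) := by
        ext z
        obtain ⟨k, x, rfl⟩ : ∃ (k : Fin 2) (x : X), Sigma.ι (fun _ : Fin 2 => X) k x = z :=
          (sigmaOpenCover fun _ : Fin 2 => X).exists_eq z
        fin_cases k
        · simp only [Set.mem_compl_iff, Set.mem_range]
          refine ⟨fun h => absurd ⟨x, rfl⟩ h, fun ⟨y, hy⟩ => ?_⟩
          exact absurd (congrArg Sigma.fst ((sigmaι_eq_iff (fun _ : Fin 2 => X) 1 0 y x).mp hy)) (by simp)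
        · simp only [Set.mem_compl_iff, Set.mem_range]
          refine ⟨fun _ => ⟨x, rfl⟩, fun _ ⟨y, hy⟩ => ?_⟩
          exact absurd (congrArg Sigma.fst ((sigmaι_eq_iff (fun _ : Fin 2 => X) 0 1 y x).mp hy)) (by simp)
      rw [← isOpen_compl_iff, heq]
      exact (Sigma.ι (fun _ : Fin 2 => X) 1).isOpenEmbedding.isOpen_range
    exact this.preimage a.continuous
  haveI : IsClosedImmersion C.ι := IsClosedImmersion.of_isPreimmersion C.ι (by
    rw [Scheme.Opens.range_ι]; exact hCclosed)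
  haveI : IsAffineHom qC := MorphismProperty.comp_mem _ _ _ inferInstance inferInstance
  have hcδ : c ≫ δ = 𝟙 C.toScheme := by
    refine Groth.L20.FlatHartogs.ext hU qC qC ?_ ?_
    · rw [Category.assoc, Category.id_comp]
      show c ≫ δ ≫ C.ι ≫ q = C.ι ≫ q
      rw [reassoc_of% hδι]
      simp [c, Δ, q]
    · let V := qC ⁻¹ᵁ U
      have hV : Set.range (V.ι ≫ C.ι) ⊆ Set.range Δ' := by
        rintro _ ⟨z, rfl⟩
        refine hrange.ge ⟨(hC _ z.2).mp z.1.2, z.2⟩
      let l := IsOpenImmersion.lift Δ' (V.ι ≫ C.ι) hV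
      have hl : l ≫ Δ' = V.ι ≫ C.ι := IsOpenImmersion.lift_fac _ _ _
      have hl' : V.ι = l ≫ (π ⁻¹ᵁ U).ι ≫ δ := by
        rw [← cancel_mono C.ι, Category.assoc, Category.assoc, hδι]
        exact hl.symm
      rw [Category.comp_id, hl']
      simp only [Category.assoc, reassoc_of% hδc]
  haveI : IsIso δ := ⟨c, hδc, hcδ⟩
  haveI : IsOpenImmersion (pullback.diagonal π) := by
    rw [show pullback.diagonal π = Δ from rfl, ← hδι]; infer_instance
  haveI : FormallyUnramified π := inferInstance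
  haveI : LocallyOfFinitePresentation π := Groth.L23.lfp_of_lft_locallyNoetherian π
  exact AlgebraicGeometry.Etale.of_formallyUnramified_of_flat π

end Groth.L27.PushO
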