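import Groth.Agent.L13.CodimOneIso
import Mathlib.AlgebraicGeometry.Morphisms.Affine
import Mathlib.Algebra.Category.Ring.Constructions
import Mathlib.RingTheory.Finiteness.Projective

/-! # Global sections of the base change of a finite projective algebra -/

set_option autoImplicit false
set_option linter.style.haveILetI false
set_option backward.isDefEq.respectTransparency.types false

universe u

open CategoryTheory CategoryTheory.Limits AlgebraicGeometry TopologicalSpace Opposite

noncomputable section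

namespace Groth.L27.PushO

/-- Coordinates on a pushout: a linear form on `B` extends to `D = C ⊗ B`, and `D` is generated. -/
theorem exists_coord {A B C D : CommRingCat.{u}} {α : A ⟶ C} {β' : A ⟶ B} {γ : C ⟶ D} {β : B ⟶ D}
    (h : IsPushout α β' γ β) :
    (∀ (P : D → Prop), P 0 → (∀ c b, P (γ c * β b)) → (∀ x y, P x → P y → P (x + y)) → ∀ d, P d) ∧
    ∀ (φ : B →+ A), (∀ a b, φ (β' a * b) = a * φ b) →
      ∃ ψ : D →+ C, ∀ c b, ψ (γ c * β b) = c * α (φ b) := by
  letI := α.hom.toAlgebra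
  letI := β'.hom.toAlgebra
  letI := γ.hom.toAlgebra
  letI := β.hom.toAlgebra
  letI : Algebra A D := (γ.hom.comp α.hom).toAlgebra
  haveI : IsScalarTower A C D := IsScalarTower.of_algebraMap_eq fun _ => rfl
  haveI : IsScalarTower A B D := IsScalarTower.of_algebraMap_eq fun a =>
    congrArg (fun f : A ⟶ D => f.hom a) h.w
  haveI hp : Algebra.IsPushout A C B D := CommRingCat.isPushout_iff_isPushout.mp h
  have hb : IsBaseChange C (IsScalarTower.toAlgHom A B D).toLinearMap := hp.out
  refine ⟨?_, ?_⟩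
  · intro P h0 hg hadd d
    induction d using IsTensorProduct.inductionOn hb with
    | zero => exact h0
    | tmul c b => exact hg c b
    | add x y hx hy => exact hadd x y hx hy
  · intro φ hφ
    let l : B →ₗ[A] C :=
      { toFun := fun b => α (φ b)
        map_add' := fun x y => by simp
        map_smul' := fun a x => by
          simp only [Algebra.smul_def, RingHom.id_apply]
          show α (φ (β' a * x)) = α a * α (φ x)
          rw [hφ, map_mul] }
    refine ⟨(hb.lift l).toAddMonoidHom, fun c b => ?_⟩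
    show hb.lift l (c • (IsScalarTower.toAlgHom A B D).toLinearMap b) = c • l b
    rw [map_smul, hb.lift_eq]

variable {A B : CommRingCat.{u}} {β' : A ⟶ B} {T P : Scheme.{u}} {t : T ⟶ Spec A} {p : P ⟶ T}
  {q : P ⟶ Spec B}

/-- The structure map of the sections over an open. -/
def str (t : T ⟶ Spec A) (U : T.Opens) : A ⟶ Γ(T, U) :=
  (Scheme.ΓSpecIso A).inv ≫ t.appLE ⊤ U le_top

theorem str_res (t : T ⟶ Spec A) {U V : T.Opens} (h : V ≤ U) (a : A) :
    T.presheaf.map (homOfLE h).op (str t U a) = str t V a := by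
  show (str t U ≫ T.presheaf.map (homOfLE h).op) a = str t V a
  rw [str, str, Category.assoc, Scheme.Hom.appLE_map]

theorem isPushout_str (sq : IsPullback q p (Spec.map β') t) {U : T.Opens} (hU : IsAffineOpen U) :
    IsPushout (str t U) β' (p.app U) (str q (p ⁻¹ᵁ U)) := by
  haveI : IsAffineHom p := MorphismProperty.of_isPullback (P := @IsAffineHom) sq inferInstance
  have hW := hU.preimage p
  have h1 := (Groth.Agent.L13.CodimOne.isPullback_fromSpec p hU hW).paste_horiz sq
  have e : ∀ {T' : Scheme.{u}} {R : CommRingCat.{u}} (g : T' ⟶ Spec R) {V : T'.Opens} (hV : IsAffineOpen V),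
      hV.fromSpec ≫ g = Spec.map (str g V) := by
    intro T' R g V hV
    rw [← IsAffineOpen.SpecMap_appLE_fromSpec g (isAffineOpen_top _) hV le_top,
      IsAffineOpen.fromSpec_top, Scheme.isoSpec_Spec_inv, str, Spec.map_comp]
  rw [e q hW, e t hU] at h1
  exact (IsPullback.of_map_of_faithful Scheme.Spec (show IsPullback (Scheme.Spec.map (str q (p ⁻¹ᵁ U)).op)
    (Scheme.Spec.map (p.app U).op) (Scheme.Spec.map β'.op) (Scheme.Spec.map (str t U).op) from h1)).unop

/-- If the functions on `T` are `A`, those on `T ×_A B` are `B`, for `B` finite projective. -/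
theorem bijective_str_top (sq : IsPullback q p (Spec.map β') t)
    (hB : letI := β'.hom.toAlgebra; Module.Finite A B ∧ Module.Projective A B)
    (ht : Function.Bijective (str t ⊤)) : Function.Bijective (str q (p ⁻¹ᵁ ⊤)) := by
  letI := β'.hom.toAlgebra
  obtain ⟨_, _⟩ := hB
  obtain ⟨n, f, g, -, -, hfg⟩ := Module.Finite.exists_comp_eq_id_of_projective A B
  let φ : Fin n → (B →+ A) := fun k => ((LinearMap.proj k).comp g).toAddMonoidHom
  let e : Fin n → B := fun k => f (Pi.single k 1)
  have hφ : ∀ k a b, φ k (β' a * b) = a * φ k b := fun k a b => by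
    show g (a • b) k = a * g b k
    rw [map_smul]; rfl
  have hsum : ∀ b, ∑ k, β' (φ k b) * e k = b := fun b => by
    have h1 : f (g b) = b := LinearMap.congr_fun hfg b
    rw [pi_eq_sum_univ' (g b), map_sum] at h1
    refine Eq.trans (Finset.sum_congr rfl fun k _ => ?_) h1
    rw [map_smul]
    rfl
  have hpo := fun U : T.affineOpens => isPushout_str sq U.2
  choose ψ hψ using fun (U : T.affineOpens) k => (exists_coord (hpo U)).2 (φ k) (hφ k)
  have hexp : ∀ (U : T.affineOpens) (d : Γ(P, p ⁻¹ᵁ U.1)),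
      ∑ k, p.app U.1 (ψ U k d) * str q (p ⁻¹ᵁ U.1) (e k) = d := by
    intro U
    refine (exists_coord (hpo U)).1 _ (by simp) (fun c b => ?_) (fun x y hx hy => ?_)
    · simp only [hψ, map_mul, mul_assoc, ← Finset.mul_sum]
      congr 1
      conv_rhs => rw [← hsum b, map_sum]
      refine Finset.sum_congr rfl fun k _ => ?_
      rw [map_mul]
      congr 1
      exact congrArg (fun m : A ⟶ Γ(P, p ⁻¹ᵁ U.1) => m (φ k b)) (hpo U).w
    · simp only [map_add, add_mul, Finset.sum_add_distrib, hx, hy]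
  have hnat : ∀ (U V : T.affineOpens) (h : V.1 ≤ U.1) (k : Fin n) (d : Γ(P, p ⁻¹ᵁ U.1)),
      T.presheaf.map (homOfLE h).op (ψ U k d) =
        ψ V k (P.presheaf.map (homOfLE (fun _ hx => h hx : p ⁻¹ᵁ V.1 ≤ p ⁻¹ᵁ U.1)).op d) := by
    intro U V h k
    refine (exists_coord (hpo U)).1 _ (by simp) (fun c b => ?_) (fun x y hx hy => ?_)
    · rw [hψ, map_mul, map_mul, str_res, str_res]
      have hc : P.presheaf.map (homOfLE (fun _ hx => h hx : p ⁻¹ᵁ V.1 ≤ p ⁻¹ᵁ U.1)).op (p.app U.1 c) =
          p.app V.1 (T.presheaf.map (homOfLE h).op c) :=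
        (congr($(p.naturality (homOfLE h).op) c)).symm
      rw [hc, hψ]
    · simp only [map_add, hx, hy]
  have hcov : (⊤ : T.Opens) ≤ ⨆ U : T.affineOpens, U.1 := (iSup_affineOpens_eq_top T).ge
  have hres : ∀ (U : T.affineOpens) (b : B),
      P.presheaf.map (homOfLE (fun _ _ => trivial : p ⁻¹ᵁ U.1 ≤ p ⁻¹ᵁ ⊤)).op (str q (p ⁻¹ᵁ ⊤) b) =
        str q (p ⁻¹ᵁ U.1) b := fun U b => str_res q _ b
  constructor
  · rw [injective_iff_map_eq_zero]
    intro b hb
    rw [← hsum b]
    refine Finset.sum_eq_zero fun k _ => ?_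
    have : φ k b = 0 := by
      apply ht.1
      rw [map_zero]
      refine T.sheaf.eq_of_locally_eq' (fun U : T.affineOpens => U.1) ⊤ (fun U => homOfLE le_top) hcov _ _
        fun U => ?_
      show T.presheaf.map (homOfLE (le_top : U.1 ≤ ⊤)).op (str t ⊤ (φ k b)) =
        T.presheaf.map (homOfLE (le_top : U.1 ≤ ⊤)).op 0
      rw [str_res, map_zero, ← one_mul (str t U.1 (φ k b)), ← hψ, map_one, one_mul, ← hres, hb, map_zero,
        map_zero]
    rw [this, map_zero, zero_mul]
  · intro s
    let sU : ∀ U : T.affineOpens, Γ(P, p ⁻¹ᵁ U.1) := fun U =>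
      P.presheaf.map (homOfLE (fun _ _ => trivial : p ⁻¹ᵁ U.1 ≤ p ⁻¹ᵁ ⊤)).op s
    have hsU : ∀ (U V : T.affineOpens) (h : V.1 ≤ U.1),
        P.presheaf.map (homOfLE (fun _ hx => h hx : p ⁻¹ᵁ V.1 ≤ p ⁻¹ᵁ U.1)).op (sU U) = sU V := fun U V h => by
      show (P.presheaf.map _ ≫ P.presheaf.map _) s = _
      rw [← Functor.map_comp]
      rfl
    have compat : ∀ k, TopCat.Presheaf.IsCompatible T.sheaf.1 (fun U : T.affineOpens => U.1)
        (fun U => ψ U k (sU U)) := by
      intro k U U'
      refine T.sheaf.eq_of_locally_eq' (fun V : {V : T.affineOpens // V.1 ≤ U.1 ⊓ U'.1} => V.1.1) _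
        (fun V => homOfLE V.2) (fun x hx => ?_) _ _ fun V => ?_
      · obtain ⟨_, ⟨W, hW, rfl⟩, hxW, hWle⟩ :=
          T.isBasis_affineOpens.exists_subset_of_mem_open hx (U.1 ⊓ U'.1).2
        exact Opens.mem_iSup.mpr ⟨⟨⟨W, hW⟩, hWle⟩, hxW⟩
      · show (T.presheaf.map _ ≫ T.presheaf.map _) _ = (T.presheaf.map _ ≫ T.presheaf.map _) _
        rw [← Functor.map_comp, ← Functor.map_comp]
        refine (hnat U V.1 (V.2.trans inf_le_left) k (sU U)).trans ?_
        rw [hsU]
        refine Eq.trans ?_ (hnat U' V.1 (V.2.trans inf_le_right) k (sU U')).symm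
        rw [hsU]
    choose a ha _ using fun k => T.sheaf.existsUnique_gluing' (fun U : T.affineOpens => U.1) ⊤
      (fun U => homOfLE le_top) hcov _ (compat k)
    choose a' ha' using fun k => ht.2 (a k)
    refine ⟨∑ k, β' (a' k) * e k, P.sheaf.eq_of_locally_eq' (fun U : T.affineOpens => p ⁻¹ᵁ U.1) (p ⁻¹ᵁ ⊤)
      (fun U => homOfLE fun _ _ => trivial) (fun x _ => ?_) _ _ fun U => ?_⟩
    · obtain ⟨U, hU⟩ := Opens.mem_iSup.mp (hcov (show p x ∈ (⊤ : T.Opens) from trivial))
      exact Opens.mem_iSup.mpr ⟨U, hU⟩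
    · show P.presheaf.map _ (str q (p ⁻¹ᵁ ⊤) _) = sU U
      rw [str_res, map_sum]
      refine Eq.trans (Finset.sum_congr rfl fun k _ => ?_) (hexp U (sU U))
      rw [map_mul]
      congr 1
      have h1 : str t U.1 (a' k) = ψ U k (sU U) := by
        rw [← str_res t (le_top : U.1 ≤ ⊤), ha']
        exact ha k U
      rw [← h1]
      exact (congrArg (fun m : A ⟶ Γ(P, p ⁻¹ᵁ U.1) => m (a' k)) (hpo U).w).symm

end Groth.L27.PushO
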